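import Cfsg.Agent.M24Nse.Basic
import Cfsg.Agent.M24Nse.Big

/-!
# Generation of the possible degree lists of the components
-/

set_option autoImplicit false

namespace Cfsg.Agent.M24Nse.Search

/-- The lists of length `k` from a list, in the order of that list, with repetitions. -/
def combsStep (prev : List ℕ → List (List ℕ)) : List ℕ → List (List ℕ)
  | [] => []
  | a :: as => (prev (a :: as)).map (a :: ·) ++ combsStep prev as

/-- The lists of length `k` from a list, in the order of that list, with repetitions. -/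
def combs : ℕ → List ℕ → List (List ℕ)
  | 0 => fun _ => [[]]
  | k + 1 => combsStep (combs k)

theorem combs_complete : ∀ (k : ℕ) (cand : List ℕ) (s : Multiset ℕ), Multiset.card s = k →
    (∀ x ∈ s, x ∈ cand) → ∃ l ∈ combs k cand, (l : Multiset ℕ) = s := by
  intro k
  induction k with
  | zero =>
    intro cand s hs _
    exact ⟨[], List.mem_singleton_self _, (Multiset.card_eq_zero.1 hs).symm⟩
  | succ k ih =>
    intro cand
    induction cand with
    | nil =>
      intro s hs h
      obtain ⟨x, hx⟩ := Multiset.exists_mem_of_ne_zero (s := s) (fun e => by simp [e] at hs)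
      exact absurd (h x hx) (by simp)
    | cons a as ih' =>
      intro s hs h
      by_cases ha : a ∈ s
      · obtain ⟨l, hl, he⟩ := ih (a :: as) (s.erase a)
          (by rw [Multiset.card_erase_of_mem ha, hs]; rfl)
          fun x hx => h x (Multiset.mem_of_mem_erase hx)
        refine ⟨a :: l, List.mem_append_left _ (List.mem_map.2 ⟨l, hl, rfl⟩), ?_⟩
        rw [← Multiset.cons_coe, he, Multiset.cons_erase ha]
      · obtain ⟨l, hl, he⟩ := ih' s hs fun x hx => by
          rcases List.mem_cons.1 (h x hx) with e | e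
          · exact absurd (e ▸ hx) ha
          · exact e
        exact ⟨l, List.mem_append_right _ hl, he⟩

/-- The coefficient of the first and third component at five, from the degree. -/
def cW (d : ℕ) : ℤ :=
  if d % 5 = 1 then 1 else if d % 5 = 4 then -1 else if d % 5 = 2 then 2
  else if d % 5 = 3 then -2 else 0

/-- The coefficient of the second component at five, from the degree. -/
def cQ (d : ℕ) : ℤ :=
  if d % 5 = 3 then 1 else if d % 5 = 2 then -1 else if d % 5 = 1 then 2
  else if d % 5 = 4 then -2 else 0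

/-- The coefficient of the first two components at seven, from the degree. -/
def cS (d : ℕ) : ℤ :=
  if d % 7 = 4 then 1 else if d % 7 = 3 then -1 else if d % 7 = 1 then 2
  else if d % 7 = 6 then -2 else 0

/-- The coefficient of the third component at seven, from the degree. -/
def cT (d : ℕ) : ℤ :=
  if d % 7 = 1 then 1 else if d % 7 = 6 then -1 else if d % 7 = 2 then 2
  else if d % 7 = 5 then -2 else 0

/-- A weighted sum of the degrees. -/
def wsum (c : ℕ → ℤ) (g : ℕ → ℤ) : List ℕ → ℤ
  | [] => 0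
  | d :: l => c d * g d + wsum c g l

theorem wsum_eq (c g : ℕ → ℤ) (l : List ℕ) :
    wsum c g l = ((l : Multiset ℕ).map fun d => c d * g d).sum := by
  induction l with
  | nil => rfl
  | cons a l ih => rw [wsum, ih, ← Multiset.cons_coe, Multiset.map_cons, Multiset.sum_cons]

/-- The three orthogonality conditions, the trivial character contributing `z`. -/
def ok (c : ℕ → ℤ) (z : ℤ) (l : List ℕ) : Bool :=
  z + wsum c (fun d => (d : ℤ)) l == 0 && z + wsum c r11 l == 0 && 2 * z + wsum c r23 l == 0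

/-- Completing a list by its largest member of weight `w`. -/
def close (c : ℕ → ℤ) (z : ℤ) (w : ℕ) (cand : List ℕ) (j : ℕ) (pre : List (List ℕ)) :
    List (List ℕ) :=
  pre.filterMap fun l =>
    let n := (z + wsum c (fun d => (d : ℤ)) l).natAbs / w
    if cand.contains n && (l.drop j).all (fun e => decide (e ≤ n)) && ok c z (n :: l) then
      some (n :: l) else none

theorem close_complete {c : ℕ → ℤ} {z : ℤ} {w : ℕ} {cand : List ℕ} {j : ℕ}
    {pre : List (List ℕ)} {l : List ℕ} {n : ℕ} (hw : 0 < w) (hl : l ∈ pre) (hn : n ∈ cand)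
    (hmax : ∀ e ∈ l.drop j, e ≤ n) (hc : (c n).natAbs = w) (hok : ok c z (n :: l) = true) :
    n :: l ∈ close c z w cand j pre := by
  refine List.mem_filterMap.2 ⟨l, hl, ?_⟩
  have h := hok
  simp only [ok, Bool.and_eq_true, beq_iff_eq] at h
  have e : (z + wsum c (fun d => (d : ℤ)) l).natAbs / w = n := by
    have h1 := h.1.1
    rw [wsum] at h1
    rw [show z + wsum c (fun d => (d : ℤ)) l = -(c n * (n : ℤ)) by linarith, Int.natAbs_neg,
      Int.natAbs_mul, hc, Int.natAbs_natCast, Nat.mul_div_cancel_left _ hw]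
  simp only [e]
  rw [if_pos]
  simp only [Bool.and_eq_true, List.contains_iff_mem, List.all_eq_true, decide_eq_true_eq]
  exact ⟨⟨hn, hmax⟩, hok⟩

/-- The degrees allowed by eleven and twenty-three. -/
def degs : List ℕ :=
  [1, 11, 12, 22, 23, 45,
  230, 231, 252, 253, 264, 276,
  483, 495, 506, 528, 540, 736,
  759, 770, 990, 1012, 1024, 1035,
  1242, 1265, 1288, 1518, 1540, 1760,
  1771, 2024, 2277, 2530, 2760, 2772,
  3024, 3036, 3312, 3520, 3542, 3795,
  3840, 4048, 4554, 4830, 5060, 5313,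
  5544, 5796, 6072, 6336, 6831, 7084,
  7360, 7590, 8096, 8832, 8855, 9108,
  9856, 10120, 10395, 10626, 11385, 11880,
  12144, 12420, 12672, 12880, 13662, 14168,
  15180, 15456]

/-- The defining condition of `degs`. -/
def degOK (d : ℕ) : Bool :=
  d != 0 && 244823040 % d == 0 && (d % 11 == 0 || d % 11 == 1 || d % 11 == 10) &&
    (d % 23 == 0 || d % 23 == 1 || d % 23 == 22 || d % 23 == 11 || d % 23 == 12)

theorem degs_eq : (List.range 15647).filter degOK = degs := by decide +kernel

theorem mem_degs {d : ℕ} (h : d < 15647) (hok : degOK d = true) : d ∈ degs := by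
  rw [← degs_eq]
  exact List.mem_filter.2 ⟨List.mem_range.2 h, hok⟩

/-- The nontrivial candidates of weight `a` in a component with class length `base`. -/
def cands (c : ℕ → ℤ) (base a : ℕ) : List ℕ :=
  degs.filter fun d => d != 1 && (c d).natAbs == a && base * a % d == 0

theorem mem_cands {c : ℕ → ℤ} {base a d : ℕ} (h : d ∈ degs) (h1 : d ≠ 1) (hc : (c d).natAbs = a)
    (hd : d ∣ base * a) : d ∈ cands c base a :=
  List.mem_filter.2 ⟨h, by simp [h1, hc, Nat.mod_eq_zero_of_dvd hd]⟩

/-- Five members of weight one. -/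
def genOnes (c : ℕ → ℤ) (z : ℤ) (k : ℕ) (c1 : List ℕ) : List (List ℕ) :=
  close c z 1 c1 0 (combs k c1)

/-- A pair of weight one and `k + 1` members of weight two. -/
def genPair (c : ℕ → ℤ) (z : ℤ) (k : ℕ) (c1 c2 : List ℕ) : List (List ℕ) :=
  close c z 2 c2 2 (c1.flatMap fun a => (combs k c2).map fun l => a :: a :: l)

/-- One member of each weight. -/
def genTwo (c : ℕ → ℤ) (c1 c2 : List ℕ) : List (List ℕ) :=
  close c 0 2 c2 1 (c1.map fun a => [a])

/-- The largest member of a nonzero multiset. -/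
theorem exists_max (s : Multiset ℕ) (h : s ≠ 0) : ∃ n ∈ s, ∀ e ∈ s, e ≤ n := by
  have hne : s.toFinset.Nonempty := by
    obtain ⟨x, hx⟩ := Multiset.exists_mem_of_ne_zero h
    exact ⟨x, Multiset.mem_toFinset.2 hx⟩
  exact ⟨_, Multiset.mem_toFinset.1 (Finset.max'_mem _ hne),
    fun e he => Finset.le_max' _ e (Multiset.mem_toFinset.2 he)⟩

/-- The three conditions on a multiset. -/
def OK (c : ℕ → ℤ) (z : ℤ) (s : Multiset ℕ) : Prop :=
  z + (s.map fun d => c d * (d : ℤ)).sum = 0 ∧ z + (s.map fun d => c d * r11 d).sum = 0 ∧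
    2 * z + (s.map fun d => c d * r23 d).sum = 0

theorem ok_of_OK {c : ℕ → ℤ} {z : ℤ} {l : List ℕ} {s : Multiset ℕ} (e : (l : Multiset ℕ) = s)
    (h : OK c z s) : ok c z l = true := by
  subst e
  obtain ⟨h1, h2, h3⟩ := h
  simp only [ok, wsum_eq, h1, h2, h3, beq_self_eq_true, Bool.and_self]

theorem ones_complete {c : ℕ → ℤ} {z : ℤ} {k : ℕ} {c1 : List ℕ} {s : Multiset ℕ}
    (hcard : Multiset.card s = k + 1) (hmem : ∀ x ∈ s, x ∈ c1 ∧ (c x).natAbs = 1)
    (hok : OK c z s) : ∃ l ∈ genOnes c z k c1, (l : Multiset ℕ) = s := by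
  obtain ⟨n, hn, hmax⟩ := exists_max s (fun e => by simp [e] at hcard)
  obtain ⟨l, hl, he⟩ := combs_complete k c1 (s.erase n)
    (by rw [Multiset.card_erase_of_mem hn, hcard]; rfl)
    fun x hx => (hmem x (Multiset.mem_of_mem_erase hx)).1
  have e : ((n :: l : List ℕ) : Multiset ℕ) = s := by
    rw [← Multiset.cons_coe, he, Multiset.cons_erase hn]
  refine ⟨n :: l, close_complete one_pos hl (hmem n hn).1 (fun x hx => hmax x ?_) (hmem n hn).2
    (ok_of_OK e hok), e⟩
  rw [← e, Multiset.mem_coe]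
  exact List.mem_cons_of_mem _ hx

theorem pair_complete {c : ℕ → ℤ} {z : ℤ} {k a : ℕ} {c1 c2 : List ℕ} {s : Multiset ℕ}
    (ha : a ∈ c1) (hcard : Multiset.card s = k + 1)
    (hmem : ∀ x ∈ s, x ∈ c2 ∧ (c x).natAbs = 2) (hok : OK c z (a ::ₘ a ::ₘ s)) :
    ∃ l ∈ genPair c z k c1 c2, (l : Multiset ℕ) = a ::ₘ a ::ₘ s := by
  obtain ⟨n, hn, hmax⟩ := exists_max s (fun e => by simp [e] at hcard)
  obtain ⟨l, hl, he⟩ := combs_complete k c2 (s.erase n)
    (by rw [Multiset.card_erase_of_mem hn, hcard]; rfl)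
    fun x hx => (hmem x (Multiset.mem_of_mem_erase hx)).1
  have hs : n ::ₘ (l : Multiset ℕ) = s := by rw [he, Multiset.cons_erase hn]
  have e : ((n :: a :: a :: l : List ℕ) : Multiset ℕ) = a ::ₘ a ::ₘ s := by
    rw [← Multiset.cons_coe, ← Multiset.cons_coe, ← Multiset.cons_coe, Multiset.cons_swap n a,
      Multiset.cons_swap n a, hs]
  refine ⟨_, close_complete two_pos (List.mem_flatMap.2 ⟨a, ha, List.mem_map.2 ⟨l, hl, rfl⟩⟩)
    (hmem n hn).1 (fun x hx => hmax x ?_) (hmem n hn).2 (ok_of_OK e hok), e⟩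
  rw [← hs]
  exact Multiset.mem_cons_of_mem hx

theorem two_complete {c : ℕ → ℤ} {a n : ℕ} {c1 c2 : List ℕ} (ha : a ∈ c1) (hn : n ∈ c2)
    (hc : (c n).natAbs = 2) (hok : OK c 0 (n ::ₘ a ::ₘ 0)) :
    [n, a] ∈ genTwo c c1 c2 :=
  close_complete two_pos (List.mem_map.2 ⟨a, ha, rfl⟩) hn (by simp) hc (ok_of_OK rfl hok)

end Cfsg.Agent.M24Nse.Search
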