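import Cfsg.Agent.M24Nse.Search.Lookup

/-!
# The search
-/

set_option autoImplicit false

namespace Cfsg.Agent.M24Nse.Search

/-- The first components. -/
def pOK : Bool :=
  tblP.all fun p => tblT0.all fun t =>
    !(p.any fun d => t.contains d && decide (cW d * cS d < 0)) ||
      (decide ((p : Multiset ℕ) = {1771, 2024, 5544, 5796}) &&
        decide ((t : Multiset ℕ) = {1035, 2024, 990, 990}))

theorem pOK_eq : pOK = true := by decide +kernel

/-- The sum of the two values at an element of order seven, from the degree. -/
def u7 (d : ℕ) : ℤ :=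
  if d % 7 = 1 then 2 else if d % 7 = 6 then -2 else if d % 7 = 2 then 4
  else if d % 7 = 5 then -4 else if d % 7 = 3 then -1 else if d % 7 = 4 then 1 else 0

/-- The degrees of the fixed members. -/
def fixedDegs : List ℕ := [1771, 5544, 5796, 1, 1035, 2024, 990, 990]

/-- The degrees not divisible by `35`. -/
def allDegs (w q s t : List ℕ) : List ℕ :=
  fixedDegs ++ s ++ t ++ (w ++ q).filter fun d => d % 7 == 0

/-- The sum of a function over a list. -/
def lsum (g : ℕ → ℤ) : List ℕ → ℤ
  | [] => 0
  | d :: l => g d + lsum g l

/-- The number of members with a property. -/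
def lcount (g : ℕ → Bool) : List ℕ → ℕ
  | [] => 0
  | d :: l => (if g d then 1 else 0) + lcount g l

/-- Whether a case is impossible unless it has degree `23`. -/
def final (al : List ℕ) : Bool :=
  lsum (fun d => r11 d * r23 d) al != 0 ||
    (let a := lcount (fun d => r11 d != 0) al
     let b := lcount (fun d => (r23 d).natAbs == 2) al
     let c := lcount (fun d => (r23 d).natAbs == 1) al
     (List.range (12 - a)).all fun n1 =>
      lsum (fun d => (d : ℤ) * r11 d) al + 4830 * n1 - 12880 * ((11 - a - n1 : ℕ) : ℤ) != 0 ||
      (List.range (12 - b)).all fun n4 =>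
        decide (2 < c) ||
        lsum (fun d => (d : ℤ) * r23 d) al - 770 * ((2 - c : ℕ) : ℤ) - 3080 * n4 -
            20790 * ((11 - b - n4 : ℕ) : ℤ) != 0 ||
        decide (244823040 < lsum (fun d => (d : ℤ) * d) al + 4830 ^ 2 * n1 +
          12880 ^ 2 * ((11 - a - n1 : ℕ) : ℤ) + 770 ^ 2 * ((2 - c : ℕ) : ℤ) + 1540 ^ 2 * n4 +
          10395 ^ 2 * ((11 - b - n4 : ℕ) : ℤ)) ||
        al.contains 23 ||
        lsum (fun d => u7 d * u7 d * r11 d * ((244823040 / d : ℕ) : ℤ)) al % 1764 != 0)

/-- The codes of a table. -/
def codes (p : ℕ) (T : List (List ℕ)) : List ℕ := T.map (code p)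

/-- All cases. -/
def searchOK : Bool :=
  tblW.all fun w =>
    let cw := code 7 w
    tblQ.all fun q =>
      (table.find (cw + code 7 q)).all fun ij =>
        final (allDegs w q (tblS.getD (ij / 128) []) (tblT.getD (ij % 128) []))

theorem searchOK_eq : searchOK = true := by decide +kernel

/-- Every pair at seven is in the table. -/
def tableOK : Bool :=
  (List.range tblS.length).all fun i => (List.range tblT.length).all fun j =>
    (table.find (code 5 (tblS.getD i []) + code 5 (tblT.getD j []))).contains (128 * i + j)

theorem tableOK_eq : tableOK = true := by decide +kernel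

end Cfsg.Agent.M24Nse.Search
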